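import Groth.Agent.Lib.Hopf.Comod
import Groth.Agent.Lib.Serre.ExtSelf
import Groth.Prelude.Def_HopfRep

/-!
# Comodules as quotients of finite projective comodules in dimension at most two
-/

set_option autoImplicit false
universe u

open TensorProduct

noncomputable section

namespace GrothLib.ComodRes14

variable {R : Type u} [CommRing R] {C : Type u} [AddCommGroup C] [Module R C] [Coalgebra R C]

/-- The cofree comodule. -/
@[instance_reducible]
def cofree (P : Type u) [AddCommGroup P] [Module R P] : HopfRep.Comod R C (P ⊗[R] C) where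
  coact := (TensorProduct.assoc R P C C).symm.toLinearMap ∘ₗ (Coalgebra.comul (R := R) (A := C)).lTensor P
  coassoc := by
    refine LinearMap.ext fun z => ?_
    induction z using TensorProduct.induction_on with
    | zero => simp
    | add p q hp hq => rw [map_add, map_add, hp, hq]
    | tmul p c =>
      let T : C ⊗[R] (C ⊗[R] C) →ₗ[R] (P ⊗[R] C) ⊗[R] (C ⊗[R] C) :=
        (TensorProduct.assoc R P C (C ⊗[R] C)).symm.toLinearMap ∘ₗ TensorProduct.mk R P _ p
      have hc := congrArg T (LinearMap.congr_fun (Coalgebra.coassoc (R := R) (A := C)) c)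
      simp only [LinearMap.comp_apply, LinearEquiv.coe_coe] at hc
      simp only [LinearMap.comp_apply, LinearEquiv.coe_coe, LinearMap.lTensor_tmul]
      refine Eq.trans ?_ (hc.trans ?_)
      · induction Coalgebra.comul (R := R) c using TensorProduct.induction_on with
        | zero => simp
        | add a b ha hb => simp only [map_add, tmul_add, ha, hb]
        | tmul a b =>
          simp only [TensorProduct.assoc_symm_tmul, LinearMap.rTensor_tmul, LinearMap.comp_apply,
            LinearEquiv.coe_coe, LinearMap.lTensor_tmul]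
          induction Coalgebra.comul (R := R) a using TensorProduct.induction_on with
          | zero => simp
          | add a b ha hb => simp only [map_add, tmul_add, add_tmul, ha, hb]
          | tmul a a' => simp [T]
      · induction Coalgebra.comul (R := R) c using TensorProduct.induction_on with
        | zero => simp
        | add a b ha hb => simp only [map_add, tmul_add, ha, hb]
        | tmul a b => simp [T]
  counit_comp := by
    refine LinearMap.ext fun z => ?_
    induction z using TensorProduct.induction_on with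
    | zero => simp
    | add p q hp hq => rw [map_add, map_add, hp, hq]
    | tmul p c =>
      have hc := congrArg (fun t => (TensorProduct.assoc R P C R).symm (p ⊗ₜ[R] t))
        (LinearMap.congr_fun (Coalgebra.lTensor_counit_comp_comul (R := R) (A := C)) c)
      simp only [LinearMap.comp_apply] at hc
      simp only [LinearMap.comp_apply, LinearEquiv.coe_coe, LinearMap.lTensor_tmul, LinearMap.flip_apply,
        TensorProduct.mk_apply]
      refine Eq.trans ?_ (hc.trans ?_)
      · induction Coalgebra.comul (R := R) c using TensorProduct.induction_on with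
        | zero => simp
        | add a b ha hb => simp only [map_add, tmul_add, ha, hb]
        | tmul a b => simp
      · simp

section Sub

variable [Module.Flat R C] {V : Type u} [AddCommGroup V] [Module R V] [HopfRep.Comod R C V]

/-- Subcomodules are comodules. -/
theorem exists_restrict (W : Submodule R V) (hW : HopfRep.IsSubcomod (k := R) (A := C) W) :
    ∃ hc : HopfRep.Comod R C W, W.subtype.rTensor C ∘ₗ hc.coact =
      HopfRep.Comod.coact (k := R) (A := C) (V := V) ∘ₗ W.subtype := by
  let j := W.subtype.rTensor C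
  have hj : Function.Injective j := Module.Flat.rTensor_preserves_injective_linearMap _ Subtype.val_injective
  let e := LinearEquiv.ofInjective j hj
  let δ : W →ₗ[R] W ⊗[R] C := e.symm.toLinearMap ∘ₗ
    (HopfRep.Comod.coact (k := R) (A := C) (V := V) ∘ₗ W.subtype).codRestrict (LinearMap.range j) (fun w => hW w w.2)
  have hδ : ∀ w, j (δ w) = HopfRep.Comod.coact (k := R) (A := C) (w : V) := fun w => by
    show (e (δ w) : V ⊗[R] C) = _
    simp [δ]
  have hj2 : Function.Injective (W.subtype.rTensor (C ⊗[R] C)) :=
    Module.Flat.rTensor_preserves_injective_linearMap _ Subtype.val_injective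
  refine ⟨{ coact := δ, coassoc := LinearMap.ext fun w => hj2 ?_, counit_comp := LinearMap.ext fun w => ?_ },
    LinearMap.ext hδ⟩
  · have h1 : ∀ z : W ⊗[R] C, W.subtype.rTensor (C ⊗[R] C) (TensorProduct.assoc R W C C (δ.rTensor C z)) =
        TensorProduct.assoc R V C C ((HopfRep.Comod.coact (k := R) (A := C) (V := V)).rTensor C (j z)) := by
      intro z
      induction z using TensorProduct.induction_on with
      | zero => simp
      | add a b ha hb => simp only [map_add, ha, hb]
      | tmul w c =>
        rw [LinearMap.rTensor_tmul, show j (w ⊗ₜ c) = (w : V) ⊗ₜ c from rfl, LinearMap.rTensor_tmul, ← hδ w]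
        generalize δ w = t
        induction t using TensorProduct.induction_on with
        | zero => simp
        | add a b ha hb => simp only [map_add, add_tmul, ha, hb]
        | tmul a b => simp [j]
    have h2 : ∀ z : W ⊗[R] C, W.subtype.rTensor (C ⊗[R] C) ((CoalgebraStruct.comul (R := R) (A := C)).lTensor W z) =
        (CoalgebraStruct.comul (R := R) (A := C)).lTensor V (j z) := fun z => by
      rw [← LinearMap.comp_apply, ← LinearMap.comp_apply, LinearMap.rTensor_comp_lTensor, LinearMap.lTensor_comp_rTensor]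
    simp only [LinearMap.comp_apply, LinearEquiv.coe_coe]
    rw [h1, h2, hδ]
    have := LinearMap.congr_fun (HopfRep.Comod.coassoc (k := R) (A := C) (V := V)) (w : V)
    simpa using this
  · have hjR : Function.Injective (W.subtype.rTensor R) :=
      Module.Flat.rTensor_preserves_injective_linearMap _ Subtype.val_injective
    apply hjR
    have := LinearMap.congr_fun (HopfRep.Comod.counit_comp (k := R) (A := C) (V := V)) (w : V)
    rw [LinearMap.comp_apply, ← LinearMap.comp_apply (W.subtype.rTensor R), LinearMap.rTensor_comp_lTensor,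
      ← LinearMap.lTensor_comp_rTensor, LinearMap.comp_apply, show W.subtype.rTensor C (δ w) = _ from hδ w]
    simpa using this

end Sub

variable [Module.Projective R C] {V : Type u} [AddCommGroup V] [Module R V] [HopfRep.Comod R C V]

/-- The functionals killing `W` cut out a subcomodule. -/
theorem isSubcomod_hull {W : Submodule R V} (hW : HopfRep.IsSubcomod (k := R) (A := C) W) :
    HopfRep.IsSubcomod (k := R) (A := C) ((W.dualAnnihilator).dualCoannihilator) := by
  obtain ⟨f, hf⟩ := GrothLib.Hopf.Comod.exists_dualFamily R C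
  intro v hv
  obtain ⟨t, ht⟩ := GrothLib.Hopf.Comod.coact_eq_sum hf v
  rw [ht]
  refine sum_mem fun e _ => ⟨⟨GrothLib.Hopf.Comod.op (f e) v, ?_⟩ ⊗ₜ[R] e, rfl⟩
  rw [Submodule.mem_dualCoannihilator]
  intro φ hφ
  have h : φ ∘ₗ GrothLib.Hopf.Comod.op (k := R) (V := V) (f e) ∈ W.dualAnnihilator := by
    rw [Submodule.mem_dualAnnihilator] at hφ ⊢
    intro w hw
    exact hφ _ (GrothLib.Hopf.Comod.op_mem_of_isSubcomod hW hw (f e))
  rw [Submodule.mem_dualCoannihilator] at hv
  exact hv _ h

omit [Coalgebra R C] [HopfRep.Comod R C V] [Module.Projective R C] in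
/-- In a projective module the hull of a finitely generated submodule is second syzygy. -/
theorem exists_hull_equiv [IsNoetherianRing R] [Module.Projective R V] (W : Submodule R V) (hW : W.FG) :
    ∃ (n m : ℕ) (ψ : (Fin n → R) →ₗ[R] (Fin m → R)),
      Nonempty (((W.dualAnnihilator).dualCoannihilator) ≃ₗ[R] LinearMap.ker ψ) := by
  classical
  obtain ⟨sec, hsec⟩ := Module.projective_def.1 (inferInstance : Module.Projective R V)
  let lc := Finsupp.linearCombination R (id : V → V)
  have hls : ∀ v, lc (sec v) = v := hsec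
  obtain ⟨S, hS⟩ := hW
  let J : Finset V := S.biUnion fun w => (sec w).support
  let e := J.equivFin
  let p : V →ₗ[R] (Fin J.card → R) := LinearMap.pi fun a => Finsupp.lapply (e.symm a).1 ∘ₗ sec
  let x : (Fin J.card → R) →ₗ[R] (V →₀ R) :=
    ∑ a, Finsupp.lsingle (e.symm a).1 ∘ₗ LinearMap.proj a
  let q : (Fin J.card → R) →ₗ[R] V := lc ∘ₗ x
  let A : Submodule R (Module.Dual R (Fin J.card → R)) := (W.map p).dualAnnihilator
  obtain ⟨T, hT⟩ := (IsNoetherian.noetherian A : A.FG)
  let e' := T.equivFin
  let ψ : (Fin J.card → R) →ₗ[R] (Fin T.card → R) := LinearMap.pi fun b => (e'.symm b).1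
  refine ⟨J.card, T.card, ψ, ?_⟩
  have hker : ∀ y, y ∈ LinearMap.ker ψ ↔ ∀ φ ∈ A, φ y = 0 := by
    intro y
    constructor
    · intro hy φ hφ
      rw [← hT] at hφ
      induction hφ using Submodule.span_induction with
      | mem φ h =>
        have := congrFun (LinearMap.mem_ker.1 hy) (e' ⟨φ, h⟩)
        simpa [ψ] using this
      | zero => simp
      | add a b _ _ ha hb => simp [ha, hb]
      | smul c a _ ha => simp [ha]
    · intro h
      refine LinearMap.mem_ker.2 (funext fun b => ?_)
      exact h _ (hT ▸ Submodule.subset_span (e'.symm b).2)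
  -- `x` and restriction to `J`
  have hcoord : ∀ (y : Fin J.card → R) (i : V), x y i = if h : i ∈ J then y (e ⟨i, h⟩) else 0 := by
    intro y i
    simp only [x, LinearMap.coe_sum, Finset.sum_apply, LinearMap.comp_apply, Finsupp.lsingle_apply,
      LinearMap.proj_apply, Finsupp.coe_finset_sum, Finsupp.single_apply]
    split_ifs with h
    · rw [Finset.sum_eq_single (e ⟨i, h⟩)]
      · simp
      · intro a _ ha
        rw [if_neg]
        intro hi
        exact ha (e.symm.injective (by rw [Equiv.symm_apply_apply]; exact Subtype.ext hi))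
      · simp
    · exact Finset.sum_eq_zero fun a _ => if_neg fun hi => h (by rw [← hi]; exact (e.symm a).2)
  have hW' : ∀ (ψ' : Module.Dual R V), (∀ w ∈ S, ψ' w = 0) → ψ' ∈ W.dualAnnihilator := by
    intro ψ' h
    rw [Submodule.mem_dualAnnihilator, ← hS]
    intro w hw
    induction hw using Submodule.span_induction with
    | mem w h' => exact h w h'
    | zero => simp
    | add a b _ _ ha hb => simp [ha, hb]
    | smul c a _ ha => simp [ha]
  have hpq : ∀ v ∈ (W.dualAnnihilator).dualCoannihilator, x (p v) = sec v := by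
    intro v hv
    refine Finsupp.ext fun i => ?_
    rw [hcoord]
    split_ifs with h
    · simp [p]
    · rw [Submodule.mem_dualCoannihilator] at hv
      refine (hv (Finsupp.lapply i ∘ₗ sec) (hW' _ fun w hw => ?_)).symm
      by_contra hne
      exact h (Finset.mem_biUnion.2 ⟨w, hw, Finsupp.mem_support_iff.2 hne⟩)
  have hqmem : ∀ y ∈ LinearMap.ker ψ, q y ∈ (W.dualAnnihilator).dualCoannihilator := by
    intro y hy
    rw [Submodule.mem_dualCoannihilator]
    intro φ hφ
    refine (hker y).1 hy (φ ∘ₗ q) ?_
    rw [Submodule.mem_dualAnnihilator]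
    rintro _ ⟨w, hw, rfl⟩
    rw [LinearMap.comp_apply, show q (p w) = w by
      simp only [q, LinearMap.comp_apply]
      rw [hpq w (Submodule.le_dualAnnihilator_dualCoannihilator W hw), hls]]
    exact (Submodule.mem_dualAnnihilator _).1 hφ w hw
  have hpmem : ∀ v ∈ (W.dualAnnihilator).dualCoannihilator, p v ∈ LinearMap.ker ψ := by
    intro v hv
    rw [hker]
    intro φ hφ
    rw [Submodule.mem_dualCoannihilator] at hv
    refine hv (φ ∘ₗ p) ?_
    rw [Submodule.mem_dualAnnihilator]
    exact fun w hw => (Submodule.mem_dualAnnihilator _).1 hφ _ ⟨w, hw, rfl⟩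
  have hinv : ∀ y ∈ LinearMap.ker ψ, p (q y) = y := by
    intro y hy
    funext a
    have h0 := (hker y).1 hy (Finsupp.lapply (e.symm a).1 ∘ₗ sec ∘ₗ q - LinearMap.proj a) ?_
    · rw [LinearMap.sub_apply, sub_eq_zero] at h0
      simpa [p] using h0
    · rw [Submodule.mem_dualAnnihilator]
      rintro _ ⟨w, hw, rfl⟩
      simp only [LinearMap.sub_apply, LinearMap.comp_apply, q]
      rw [hpq w (Submodule.le_dualAnnihilator_dualCoannihilator W hw), hls]
      simp [p]
  refine ⟨LinearEquiv.ofLinear ((p.comp (Submodule.subtype _)).codRestrict _ fun v => hpmem v v.2)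
    ((q.comp (Submodule.subtype _)).codRestrict _ fun y => hqmem y y.2) ?_ ?_⟩
  · exact LinearMap.ext fun y => Subtype.ext (hinv y y.2)
  · refine LinearMap.ext fun v => Subtype.ext ?_
    show lc (x (p v)) = v
    rw [hpq v v.2, hls]

omit [Coalgebra R C] [HopfRep.Comod R C V] [Module.Projective R C] in
theorem projective_ker [IsRegularRing R] (hdim : ringKrullDim R ≤ 2) {n m : ℕ}
    (ψ : (Fin n → R) →ₗ[R] (Fin m → R)) : Module.Projective R (LinearMap.ker ψ) := by
  have h2 : GrothLib.Serre.PdLE R ((Fin m → R) ⧸ LinearMap.range ψ) 2 :=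
    GrothLib.Serre.pdLE_of_regular_finiteDim 2 (by exact_mod_cast hdim) fun p => inferInstance
  rw [GrothLib.Serre.pdLE_succ_iff (LinearMap.range ψ).mkQ (Submodule.mkQ_surjective _),
    Submodule.ker_mkQ, GrothLib.Serre.pdLE_succ_iff ψ.rangeRestrict ψ.surjective_rangeRestrict,
    LinearMap.ker_rangeRestrict, GrothLib.Serre.pdLE_zero_iff] at h2
  exact h2

/-- Every finite comodule is a quotient of a finite subcomodule of a projective one, which may be taken to be
saturated if the comodule itself embeds in a projective module. -/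
theorem exists_cover [Module.Finite R V] (P : Type u) [AddCommGroup P] [Module R P] (f : P →ₗ[R] V)
    (hf : Function.Surjective f) :
    letI := cofree (R := R) (C := C) P
    ∃ (W : Submodule R (P ⊗[R] C)) (Φ : (P ⊗[R] C) →ₗ[R] V), W.FG ∧ HopfRep.IsSubcomod (k := R) (A := C) W ∧
      (∀ v, f.rTensor C v ∈ LinearMap.range (HopfRep.Comod.coact (k := R) (A := C) (V := V)) →
        HopfRep.Comod.coact (k := R) (A := C) (Φ v) = Φ.rTensor C (HopfRep.Comod.coact (k := R) (A := C) v)) ∧
      (∀ x, ∃ v ∈ W, Φ v = x) ∧ ∀ v ∈ W, f.rTensor C v ∈ LinearMap.range (HopfRep.Comod.coact (k := R) (A := C) (V := V)) := by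
  classical
  letI := cofree (R := R) (C := C) P
  let δ := HopfRep.Comod.coact (k := R) (A := C) (V := V)
  let π : V ⊗[R] C →ₗ[R] V := (TensorProduct.rid R V).toLinearMap ∘ₗ (Coalgebra.counit (R := R) (A := C)).lTensor V
  let Φ : (P ⊗[R] C) →ₗ[R] V := π ∘ₗ f.rTensor C
  let V₀ : Submodule R (P ⊗[R] C) := (LinearMap.range δ).comap (f.rTensor C)
  have hπ : ∀ x, π (δ x) = x := GrothLib.Hopf.Comod.op_counit
  -- `V₀` is a subcomodule
  have hV₀ : HopfRep.IsSubcomod (k := R) (A := C) V₀ := by
    let q : P ⊗[R] C →ₗ[R] (V ⊗[R] C) ⧸ LinearMap.range δ := (LinearMap.range δ).mkQ ∘ₗ f.rTensor C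
    have hexact : Function.Exact (V₀.subtype.rTensor C) (q.rTensor C) :=
      Module.Flat.rTensor_exact C (LinearMap.exact_iff.2 (by
        rw [Submodule.range_subtype, LinearMap.ker_comp, Submodule.ker_mkQ]))
    intro v hv
    obtain ⟨x, hx⟩ := hv
    refine (hexact _).1 ?_
    have h1 : ∀ z : P ⊗[R] C, (f.rTensor C).rTensor C (HopfRep.Comod.coact (k := R) (A := C) z) =
        (TensorProduct.assoc R V C C).symm ((Coalgebra.comul (R := R) (A := C)).lTensor V (f.rTensor C z)) := by
      intro z
      induction z using TensorProduct.induction_on with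
      | zero => simp
      | add a b ha hb => simp only [map_add, ha, hb]
      | tmul a c =>
        show (f.rTensor C).rTensor C ((TensorProduct.assoc R P C C).symm
          ((Coalgebra.comul (R := R) (A := C)).lTensor P (a ⊗ₜ c))) = _
        rw [LinearMap.rTensor_tmul, LinearMap.lTensor_tmul, LinearMap.lTensor_tmul]
        induction Coalgebra.comul (R := R) c using TensorProduct.induction_on with
        | zero => simp
        | add a b ha hb => simp only [map_add, tmul_add, ha, hb]
        | tmul a b => simp
    rw [show q.rTensor C = (LinearMap.range δ).mkQ.rTensor C ∘ₗ (f.rTensor C).rTensor C from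
      LinearMap.rTensor_comp _ _ _, LinearMap.comp_apply, h1, ← hx]
    have h2 := LinearMap.congr_fun (HopfRep.Comod.coassoc (k := R) (A := C) (V := V)) x
    simp only [LinearMap.comp_apply, LinearEquiv.coe_coe] at h2
    rw [show (CoalgebraStruct.comul (R := R) (A := C)) = Coalgebra.comul (R := R) (A := C) from rfl] at h2
    rw [← h2, LinearEquiv.symm_apply_apply, ← LinearMap.comp_apply, ← LinearMap.rTensor_comp,
      show (LinearMap.range δ).mkQ ∘ₗ δ = 0 from LinearMap.ext fun y => (Submodule.Quotient.mk_eq_zero _).2 ⟨y, rfl⟩,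
      LinearMap.rTensor_zero, LinearMap.zero_apply]
  -- compatibility
  have hΦδ : ∀ z, Φ.rTensor C (HopfRep.Comod.coact (k := R) (A := C) z) = f.rTensor C z := by
    intro z
    induction z using TensorProduct.induction_on with
    | zero => simp
    | add a b ha hb => simp only [map_add, ha, hb]
    | tmul a c =>
      show Φ.rTensor C ((TensorProduct.assoc R P C C).symm ((Coalgebra.comul (R := R) (A := C)).lTensor P (a ⊗ₜ c))) = _
      have hc := congrArg (fun t => (TensorProduct.lid R C t))
        (LinearMap.congr_fun (Coalgebra.rTensor_counit_comp_comul (R := R) (A := C)) c)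
      simp only [LinearMap.comp_apply, TensorProduct.mk_apply, TensorProduct.lid_tmul, one_smul] at hc
      rw [LinearMap.rTensor_tmul]
      refine Eq.trans ?_ (congrArg (f a ⊗ₜ[R] ·) hc)
      rw [LinearMap.lTensor_tmul]
      induction Coalgebra.comul (R := R) c using TensorProduct.induction_on with
      | zero => simp
      | add a b ha hb => simp only [map_add, tmul_add, ha, hb]
      | tmul a b => simp [Φ, π, smul_tmul]
  have hcomp : ∀ v, f.rTensor C v ∈ LinearMap.range δ → δ (Φ v) = Φ.rTensor C (HopfRep.Comod.coact (k := R) (A := C) v) := by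
    rintro v ⟨x, hx⟩
    rw [hΦδ, ← hx, show Φ v = x by simp only [Φ, LinearMap.comp_apply]; rw [← hx, hπ]]
  choose g hg using fun x : V => LinearMap.rTensor_surjective C hf (δ x)
  obtain ⟨S, hS⟩ := (Module.Finite.fg_top : (⊤ : Submodule R V).FG)
  let M : Submodule R (P ⊗[R] C) := Submodule.span R ↑(S.image g)
  have hMV : M ≤ V₀ := Submodule.span_le.2 (by
    intro v hv
    obtain ⟨x, -, rfl⟩ := Finset.mem_image.1 hv
    exact ⟨x, (hg x).symm⟩)
  refine ⟨GrothLib.Hopf.Comod.gen (C := C) M, Φ, GrothLib.Hopf.Comod.gen_fg ⟨_, rfl⟩,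
    GrothLib.Hopf.Comod.gen_isSubcomod M, hcomp, fun x => ?_, fun v hv => GrothLib.Hopf.Comod.gen_le hV₀ hMV hv⟩
  have hx : x ∈ Submodule.span R (S : Set V) := by rw [hS]; trivial
  induction hx using Submodule.span_induction with
  | mem x h =>
    exact ⟨g x, GrothLib.Hopf.Comod.le_gen _ (Submodule.subset_span (Finset.mem_image_of_mem g h)), by
      simp only [Φ, LinearMap.comp_apply]; rw [hg, hπ]⟩
  | zero => exact ⟨0, zero_mem _, map_zero _⟩
  | add a b _ _ ha hb =>
    obtain ⟨v, hv, rfl⟩ := ha
    obtain ⟨w, hw, rfl⟩ := hb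
    exact ⟨v + w, add_mem hv hw, map_add _ _ _⟩
  | smul c a _ ha =>
    obtain ⟨v, hv, rfl⟩ := ha
    exact ⟨c • v, Submodule.smul_mem _ _ hv, map_smul _ _ _⟩

/-- The hull of a cover of a submodule of a projective module still maps to it. -/
theorem hull_le_comap [Module.Flat R C] {X Y P : Type u} [AddCommGroup Y] [Module R Y] [AddCommGroup P] [Module R P]
    [AddCommGroup X] [Module R X] [Module.Projective R Y]
    (j : X →ₗ[R] Y) (hj : Function.Injective j) (g : P →ₗ[R] X) {W : Submodule R P}
    (h : ∀ w ∈ W, g w = 0) {v : P} (hv : v ∈ (W.dualAnnihilator).dualCoannihilator) : g v = 0 := by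
  apply hj
  rw [map_zero]
  by_contra hne
  obtain ⟨sec, hsec⟩ := Module.projective_def.1 (inferInstance : Module.Projective R Y)
  have h2 : sec (j (g v)) = 0 := Finsupp.ext fun i => by
    rw [Submodule.mem_dualCoannihilator] at hv
    refine hv (Finsupp.lapply i ∘ₗ sec ∘ₗ j ∘ₗ g) ?_
    rw [Submodule.mem_dualAnnihilator]
    intro w hw
    simp [h w hw]
  exact hne (by rw [← hsec (j (g v)), h2, map_zero])

/-- A finite comodule embedded in a projective module is a quotient of a finite projective comodule. -/
theorem exists_projective_cover [IsRegularRing R] (hdim : ringKrullDim R ≤ 2) [Module.Finite R V]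
    {Y : Type u} [AddCommGroup Y] [Module R Y] [Module.Projective R Y] (j : V →ₗ[R] Y) (hj : Function.Injective j) :
    ∃ (S : Type u) (_ : AddCommGroup S) (_ : Module R S) (_ : HopfRep.Comod R C S) (φ : S →ₗ[R] V),
      Module.Finite R S ∧ Module.Projective R S ∧ Function.Surjective φ ∧
        HopfRep.Comod.coact (k := R) (A := C) ∘ₗ φ = φ.rTensor C ∘ₗ HopfRep.Comod.coact (k := R) (A := C) (V := S) := by
  obtain ⟨m, f, hf⟩ := Module.Finite.exists_fin' R V
  letI hX := cofree (R := R) (C := C) (Fin m → R)
  obtain ⟨W, Φ, hWfg, hW, hΦ, hΦs, hWV⟩ := exists_cover (C := C) (Fin m → R) f hf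
  let S := (W.dualAnnihilator).dualCoannihilator
  obtain ⟨hcS, hcS'⟩ := exists_restrict S (isSubcomod_hull hW)
  obtain ⟨k, l, ψ, ⟨e⟩⟩ := exists_hull_equiv W hWfg
  haveI : Module.Projective R (LinearMap.ker ψ) := projective_ker hdim ψ
  haveI : Module.Finite R (LinearMap.ker ψ) := Module.Finite.iff_fg.2 (IsNoetherian.noetherian _)
  have hSV : ∀ v ∈ S, f.rTensor C v ∈ LinearMap.range (HopfRep.Comod.coact (k := R) (A := C) (V := V)) := by
    intro v hv
    let δ := HopfRep.Comod.coact (k := R) (A := C) (V := V)
    let π : V ⊗[R] C →ₗ[R] V := (TensorProduct.rid R V).toLinearMap ∘ₗ (Coalgebra.counit (R := R) (A := C)).lTensor V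
    refine ⟨π (f.rTensor C v), ?_⟩
    have h0 := hull_le_comap (C := C) (j.rTensor C) (Module.Flat.rTensor_preserves_injective_linearMap _ hj)
      ((LinearMap.id - δ ∘ₗ π) ∘ₗ f.rTensor C) (W := W) (fun w hw => by
        obtain ⟨x, hx⟩ := hWV w hw
        have hπ : π (δ x) = x := GrothLib.Hopf.Comod.op_counit x
        simp only [LinearMap.comp_apply, LinearMap.sub_apply, LinearMap.id_apply]
        rw [← hx, hπ, sub_self]) hv
    simp only [LinearMap.comp_apply, LinearMap.sub_apply, LinearMap.id_apply, sub_eq_zero] at h0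
    exact h0.symm
  refine ⟨S, inferInstance, inferInstance, hcS, Φ ∘ₗ S.subtype, Module.Finite.equiv e.symm,
    Module.Projective.of_equiv e.symm, fun x => ?_, LinearMap.ext fun v => ?_⟩
  · obtain ⟨z, hz, hzx⟩ := hΦs x
    exact ⟨⟨z, Submodule.le_dualAnnihilator_dualCoannihilator W hz⟩, hzx⟩
  · simp only [LinearMap.comp_apply, LinearMap.rTensor_comp]
    rw [show (S.subtype v : (Fin m → R) ⊗[R] C) = (v : (Fin m → R) ⊗[R] C) from rfl, hΦ _ (hSV v v.2)]
    exact (congrArg (Φ.rTensor C) (LinearMap.congr_fun hcS' v)).symm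

/-- Every finite comodule is a quotient of a finite projective one. -/
theorem exists_projective_quotient [IsRegularRing R] (hdim : ringKrullDim R ≤ 2) [Module.Finite R V] :
    ∃ (S : Type u) (_ : AddCommGroup S) (_ : Module R S) (_ : HopfRep.Comod R C S) (φ : S →ₗ[R] V),
      Module.Finite R S ∧ Module.Projective R S ∧ Function.Surjective φ ∧
        HopfRep.Comod.coact (k := R) (A := C) ∘ₗ φ = φ.rTensor C ∘ₗ HopfRep.Comod.coact (k := R) (A := C) (V := S) := by
  obtain ⟨n, f, hf⟩ := Module.Finite.exists_fin' R V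
  letI hX := cofree (R := R) (C := C) (Fin n → R)
  obtain ⟨W, Φ, hWfg, hW, hΦ, hΦs, hWV⟩ := exists_cover (C := C) (Fin n → R) f hf
  obtain ⟨hcW, hcW'⟩ := exists_restrict W hW
  letI := hcW
  haveI : Module.Finite R W := Module.Finite.iff_fg.2 hWfg
  obtain ⟨S, _, _, hcS, φ, h1, h2, hφs, hφ⟩ :=
    exists_projective_cover (R := R) (C := C) (V := ↥W) hdim W.subtype Subtype.val_injective
  refine ⟨S, inferInstance, inferInstance, hcS, (Φ ∘ₗ W.subtype) ∘ₗ φ, h1, h2, fun x => ?_, LinearMap.ext fun v => ?_⟩
  · obtain ⟨y, hy, rfl⟩ := hΦs x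
    obtain ⟨z, hz⟩ := hφs ⟨y, hy⟩
    exact ⟨z, congrArg Φ (congrArg Subtype.val hz)⟩
  · simp only [LinearMap.comp_apply, LinearMap.rTensor_comp]
    rw [show (W.subtype (φ v) : (Fin n → R) ⊗[R] C) = ((φ v : W) : (Fin n → R) ⊗[R] C) from rfl, hΦ _ (hWV _ (φ v).2)]
    refine congrArg (Φ.rTensor C) ?_
    exact (LinearMap.congr_fun hcW' (φ v)).symm.trans (congrArg (W.subtype.rTensor C) (LinearMap.congr_fun hφ v))

end GrothLib.ComodRes14
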